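import Groth.Agent.L21.Birational
import Groth.Agent.L22.FlatPullback
import Groth.Agent.L22.DivSub.Basic
import Groth.Agent.L20.SeeNormal.Sheaf
import Mathlib.AlgebraicGeometry.Morphisms.Etale
import Mathlib.AlgebraicGeometry.Morphisms.FlatMono

/-!
Splitting a normal prime divisor in a finite étale cover.
-/

set_option autoImplicit false
set_option linter.style.haveILetI false
set_option backward.isDefEq.respectTransparency false
set_option backward.isDefEq.respectTransparency.types false

universe u

open CategoryTheory CategoryTheory.Limits AlgebraicGeometry TopologicalSpace Topology IsLocalRing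
open Groth.L20.SeeNormal (sI)

noncomputable section

namespace Groth.L22.CSplit

/-- A finite surjective morphism of degree one onto a normal integral scheme is an isomorphism. -/
theorem isIso_of_degree_one {W T : Scheme.{u}} [IsIntegral W] [IsIntegral T] (g : W ⟶ T) [IsFinite g]
    (hT : ∀ x : T, IsDomain (T.presheaf.stalk x) ∧ IsIntegrallyClosed (T.presheaf.stalk x))
    (hsurj : Function.Surjective g.base) (hdeg : g.residueDegree (genericPoint W) = 1) : IsIso g := by
  have hdom : g (genericPoint W) = genericPoint T := by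
    refine ((genericPoint_spec W).image g.continuous).eq ?_
    rw [Set.image_univ, hsurj.range_eq, closure_univ]
    exact genericPoint_spec T
  refine Groth.L21.isIso_of_isFinite_of_normal g hT hdom ?_
  have hW : IsField (W.presheaf.stalk (genericPoint W)) :=
    Field.toIsField W.functionField
  have hTf : IsField (T.presheaf.stalk (g (genericPoint W))) := by
    rw [hdom]; exact Field.toIsField T.functionField
  have hφ : Function.Bijective (g.residueFieldMap (genericPoint W)).hom := by
    refine ⟨RingHom.injective _, ?_⟩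
    letI := (g.residueFieldMap (genericPoint W)).hom.toAlgebra
    have h1 : Module.finrank (T.residueField (g (genericPoint W))) (W.residueField (genericPoint W)) = 1 := hdeg
    intro w
    obtain ⟨c, hc⟩ := (finrank_eq_one_iff_of_nonzero' (1 : W.residueField (genericPoint W)) one_ne_zero).1 h1 w
    exact ⟨c, by rw [← hc, Algebra.smul_def, mul_one]; rfl⟩
  have hres : ∀ {Z : Scheme.{u}} (z : Z), IsField (Z.presheaf.stalk z) → Function.Bijective (Z.residue z).hom :=
    fun {Z} z hz => by
      refine ⟨?_, Ideal.Quotient.mk_surjective⟩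
      refine (RingHom.injective_iff_ker_eq_bot _).2 ?_
      rw [← IsLocalRing.isField_iff_maximalIdeal_eq.1 hz]
      exact Ideal.mk_ker
  rw [ConcreteCategory.isIso_iff_bijective]
  have hcomp : (W.residue (genericPoint W)).hom ∘ (g.stalkMap (genericPoint W)).hom =
      (g.residueFieldMap (genericPoint W)).hom ∘ (T.residue (g (genericPoint W))).hom := by
    funext t
    exact (ConcreteCategory.congr_hom (Scheme.residue_residueFieldMap g (genericPoint W)) t).symm
  exact (Function.Bijective.of_comp_iff' (hres _ hW) _).1 (hcomp ▸ hφ.comp (hres _ hTf))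

theorem main {X Y : Scheme.{u}} [IsLocallyNoetherian X] [IsLocallyNoetherian Y] (f : Y ⟶ X) [IsFinite f] [Etale f]
    (D : X.IdealSheafData) (hD : BlowUp.IsEffCartierIdeal D) [IsIntegral D.subscheme]
    (hDn : ∀ x : D.subscheme, IsDomain (D.subscheme.presheaf.stalk x) ∧ IsIntegrallyClosed (D.subscheme.presheaf.stalk x))
    (E : Y.IdealSheafData) [IsIntegral E.subscheme]
    (g : (E.subscheme : Scheme.{u}) ⟶ D.subscheme) (hg : g ≫ D.subschemeι = E.subschemeι ≫ f)
    (hsurj : Function.Surjective g.base) (hdeg : g.residueDegree (genericPoint E.subscheme) = 1) :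
    IsIso g ∧ BlowUp.IsEffCartierIdeal E := by
  classical
  haveI : IsFinite (g ≫ D.subschemeι) := by rw [hg]; infer_instance
  haveI : IsFinite g := IsFinite.of_comp g D.subschemeι
  haveI hiso : IsIso g := isIso_of_degree_one g hDn hsurj hdeg
  refine ⟨hiso, fun y => ?_⟩
  by_cases hy : y ∈ E.support
  swap
  · obtain ⟨V, hV, hyV, hVs⟩ := exists_isAffineOpen_mem_and_subset (x := y) (U := (⟨(E.support : Set Y)ᶜ,
      E.support.2.isOpen_compl⟩ : Y.Opens)) hy
    refine ⟨⟨V, hV⟩, hyV, 1, one_mem _, ?_⟩
    rw [Ideal.span_singleton_one, eq_top_iff]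
    have : (⊤ : Y.IdealSheafData).ideal ⟨V, hV⟩ ≤ E.ideal ⟨V, hV⟩ :=
      Groth.L20.SeeNormal.ideal_le_of_sI_le ⟨V, hV⟩ fun z hz => by
        rw [not_ne_iff.1 fun h => hVs hz ((Groth.L22.DivSub.mem_support_iff E z).2 h)]
        exact le_top
    rwa [Scheme.IdealSheafData.ideal_top] at this
  let P := pullback f D.subschemeι
  let π : P ⟶ D.subscheme := pullback.snd f D.subschemeι
  let σ : D.subscheme ⟶ P := pullback.lift (inv g ≫ E.subschemeι) (𝟙 _)
    (by rw [Category.assoc, ← hg, IsIso.inv_hom_id_assoc, Category.id_comp])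
  haveI : IsOpenImmersion σ := by
    have hσ : σ ≫ π = 𝟙 _ := pullback.lift_snd _ _ _
    haveI : Etale π := MorphismProperty.pullback_snd (P := @Etale) _ _ inferInstance
    haveI : Etale (σ ≫ π) := by rw [hσ]; infer_instance
    haveI : Etale σ := Etale.of_comp σ π
    haveI : Mono (σ ≫ π) := by rw [hσ]; infer_instance
    haveI : Mono σ := mono_of_mono σ π
    exact IsOpenImmersion.of_flat_of_mono σ
  have hE : E.subschemeι = (g ≫ σ) ≫ pullback.fst f D.subschemeι := by
    rw [Category.assoc, pullback.lift_fst, IsIso.hom_inv_id_assoc]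
  obtain ⟨U, hUo, hU⟩ := (pullback.fst f D.subschemeι).isEmbedding.isInducing.isOpen_iff.1
    σ.isOpenEmbedding.isOpen_range
  obtain ⟨e, rfl⟩ : y ∈ Set.range E.subschemeι := by rw [E.range_subschemeι]; exact hy
  have heU : E.subschemeι e ∈ U := by
    rw [hE, Scheme.Hom.comp_apply]
    exact hU.ge ⟨g e, rfl⟩
  have hrange : ∀ z ∈ U, z ∈ Set.range (pullback.fst f D.subschemeι) → z ∈ Set.range E.subschemeι := by
    rintro z hz ⟨w, rfl⟩
    obtain ⟨d, rfl⟩ : w ∈ Set.range σ := hU.le hz
    obtain ⟨e', rfl⟩ := g.surjective d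
    exact ⟨e', by rw [hE]; rfl⟩
  have hsI : ∀ z ∈ U, sI E z = sI (D.comap f) z := by
    intro z hz
    by_cases hzE : z ∈ Set.range E.subschemeι
    · obtain ⟨e', rfl⟩ := hzE
      have h1 := Groth.L20.Infinitesimal.ker_stalkMap E.subschemeι e'
      rw [Scheme.IdealSheafData.ker_subschemeι] at h1
      have h2 := Groth.L20.Infinitesimal.ker_stalkMap (pullback.fst f D.subschemeι) ((g ≫ σ) e')
      rw [← h1]
      have hb : Function.Bijective ((g ≫ σ).stalkMap e').hom := ConcreteCategory.bijective_of_isIso _
      have h3 : ∀ (i : E.subscheme ⟶ Y) (hi : i = (g ≫ σ) ≫ pullback.fst f D.subschemeι),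
          RingHom.ker (i.stalkMap e').hom = sI (D.comap f) (i e') := by
        rintro i rfl
        rw [Scheme.Hom.stalkMap_comp, CommRingCat.hom_comp, ← RingHom.comap_ker,
          (RingHom.injective_iff_ker_eq_bot _).1 hb.1]
        exact h2
      exact h3 _ hE
    · have htop : sI E z = ⊤ := not_ne_iff.1 fun h =>
        hzE (by rw [E.range_subschemeι]; exact (Groth.L22.DivSub.mem_support_iff E z).2 h)
      rw [htop]
      symm
      by_contra h
      refine hzE (hrange z hz ?_)
      have h' : z ∈ (D.comap f).support := (Groth.L22.DivSub.mem_support_iff _ z).2 h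
      have h'' : z ∈ closure (Set.range (pullback.fst f D.subschemeι)) := by
        have := (pullback.fst f D.subschemeι).support_ker
        exact (Set.ext_iff.1 this z).1 h'
      rwa [(pullback.fst f D.subschemeι).isClosedEmbedding.isClosed_range.closure_eq] at h''
  obtain ⟨V, hyV, a, ha, haV⟩ := Groth.L22.Ideals.isEffCartier_comap_of_flat f hD (E.subschemeι e)
  obtain ⟨r, hrU, her⟩ := V.2.exists_basicOpen_le (V := ⟨U, hUo⟩) ⟨_, heU⟩ hyV
  refine ⟨Y.affineBasicOpen r, her, Y.presheaf.map (homOfLE (Y.basicOpen_le r)).op a, ?_, ?_⟩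
  · letI : Algebra Γ(Y, V.1) Γ(Y, Y.basicOpen r) := (Y.presheaf.map (homOfLE <| Y.basicOpen_le r).op).hom.toAlgebra
    haveI := V.2.isLocalization_basicOpen r
    exact IsLocalization.map_nonZeroDivisors_le (Submonoid.powers r) Γ(Y, Y.basicOpen r) ⟨a, ha, rfl⟩
  · have heq : E.ideal (Y.affineBasicOpen r) = (D.comap f).ideal (Y.affineBasicOpen r) :=
      le_antisymm (Groth.L20.SeeNormal.ideal_le_of_sI_le _ fun z hz => (hsI z (hrU hz)).le)
        (Groth.L20.SeeNormal.ideal_le_of_sI_le _ fun z hz => (hsI z (hrU hz)).ge)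
    rw [heq, ← (D.comap f).map_ideal_basicOpen V r, haV, Ideal.map_span, Set.image_singleton]
    rfl

end Groth.L22.CSplit
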